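import Cfsg.Agent.Lib.CoxTorus.Main

/-! A single Weyl word for all conjugations by one element, and diagonalisation of subgroups of
order prime to the Weyl group. -/

set_option autoImplicit false

namespace Cfsg.Agent.SylHom

open Cfsg.Lie Cfsg.Agent.Chev Cfsg.Agent.Chev.Tab Cfsg.Agent.ChevAut Cfsg.Agent.CoxTorus Matrix

variable {T : Tab} {E : Type*} [Field E]

theorem exists_diag_conj (g : T.GoodA) [Fintype E]
    {r : ℕ} [Fact r.Prime] (hQ : r ∣ Fintype.card E - 1) (hW : ¬ r ∣ Nat.card (wG g.toGood))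
    {R : Subgroup ↥(T.D.group E)} (hR : IsPGroup r R) :
    ∃ h ∈ T.D.group E, ∀ y ∈ R, ∃ c, h * (y : GL T.D.Idx E) * h⁻¹ = tor T E c := by
  classical
  have hr : r.Prime := Fact.out
  have hg := g.toGood
  haveI : Finite E := Finite.of_fintype E
  let G := T.D.group E
  have hDG : T.D.diagonalSubgroup E ≤ G := by
    rw [diagonalSubgroup_eq hg]
    rintro _ ⟨c, rfl⟩
    exact tor_mem_group hg c
  let D : Subgroup G := (T.D.diagonalSubgroup E).subgroupOf G
  have hcD : Nat.card D = Nat.card (T.D.diagonalSubgroup E) :=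
    Nat.card_congr (Subgroup.subgroupOfEquivOfLe hDG).toEquiv
  haveI : Fintype ↥(wG hg) := Fintype.ofFinite _
  have hidx : ¬ r ∣ D.index := by
    have h1 := D.card_mul_index
    rw [hcD, card_group_eq g, card_borel g, mul_comm (Fintype.card E ^ T.N), mul_assoc] at h1
    rw [Nat.eq_of_mul_eq_mul_left Nat.card_pos h1, ← ZMod.natCast_eq_zero_iff]
    have hQ1 : (Fintype.card E : ZMod r) = 1 := by
      have := (ZMod.natCast_eq_zero_iff (Fintype.card E - 1) r).2 hQ
      rwa [Nat.cast_sub Fintype.card_pos, Nat.cast_one, sub_eq_zero] at this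
    simp only [Nat.cast_mul, Nat.cast_pow, hQ1, one_pow, one_mul, Nat.cast_sum, Finset.sum_const,
      Finset.card_univ, nsmul_eq_mul, mul_one]
    rw [ZMod.natCast_eq_zero_iff]
    convert hW using 2
    convert Nat.card_eq_fintype_card.symm
  let P₀ : Sylow r D := default
  have hPidx : ¬ r ∣ ((P₀ : Subgroup D).map D.subtype).index := by
    rw [Subgroup.index_map_subtype]
    intro h
    rcases hr.dvd_mul.1 h with h | h
    · exact P₀.not_dvd_index' (fun h0 => Subgroup.index_ne_zero_of_finite h0) h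
    · exact hidx h
  let P : Sylow r G := (P₀.isPGroup'.map D.subtype).toSylow hPidx
  obtain ⟨Q, hQ'⟩ := hR.exists_le_sylow
  obtain ⟨h, hh⟩ := MulAction.exists_smul_eq G Q P
  refine ⟨h, h.2, fun y hy => ?_⟩
  have hmem : h * y * h⁻¹ ∈ (P : Subgroup G) := by
    rw [← hh, Sylow.smul_def, Sylow.pointwise_smul_def]
    exact ⟨_, hQ' hy, rfl⟩
  obtain ⟨z, -, hz⟩ : h * y * h⁻¹ ∈ (P₀ : Subgroup D).map D.subtype := hmem
  have hzD := z.2
  rw [Subgroup.mem_subgroupOf, diagonalSubgroup_eq hg] at hzD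
  obtain ⟨c, hc⟩ := hzD
  refine ⟨c, ?_⟩
  rw [hc]
  exact (congrArg Subtype.val hz).symm

/-- An element of the group acts on the torus elements it keeps in the torus as a Weyl word. -/
theorem exists_word (g : T.GoodA) {m : GL T.D.Idx E} (hm : m ∈ T.D.group E) :
    ∃ L, T.Wd L ∧ ∀ c c' : ℕ → Eˣ, m * tor T E c * m⁻¹ = tor T E c' →
      nWd g.toGood E L * tor T E c * (nWd g.toGood E L)⁻¹ = tor T E c' := by
  have hg := g.toGood
  obtain ⟨b, hb, n, hn, L, hL, ⟨a, ha⟩, u, hu, hm'⟩ := bruhat_exists g hm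
  refine ⟨L, hL, fun c c' h => ?_⟩
  obtain ⟨e, he⟩ := wSub_conj_torus hg (nWd_mem_wSub (F := E) hg hL) c
  rw [he]
  have hn' : n * tor T E c * n⁻¹ = tor T E e := by
    rw [ha, show ∀ a b x : GL T.D.Idx E, a * b * x * (a * b)⁻¹ = a * (b * x * b⁻¹) * a⁻¹ from
      fun a b x => by group, he, ← map_inv, ← map_mul, ← map_mul, mul_right_comm, mul_inv_cancel,
      one_mul]
  have hu' : (tor T E c)⁻¹ * u * tor T E c ∈ uMinus hg E L := by
    have := (Subgroup.mem_normalizer_iff.1 (inv_mem (tor_normalizes (F := E) hg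
      (fun r hr => hr.2.1) c)) u).1 hu
    rwa [inv_inv] at this
  have hx : b * tor T E e * n * ((tor T E c)⁻¹ * u * tor T E c) = tor T E c' * b * n * u := by
    calc _ = b * n * u * tor T E c := by rw [← hn']; group
      _ = tor T E c' * (b * n * u) := by rw [← hm', ← h]; group
      _ = _ := by group
  obtain ⟨hbb, -⟩ := (bruhat_unique g (mul_mem hb (torus_le_borel hg e))
    (mul_mem (torus_le_borel hg c') hb) hn hn hL ha hu' hu hx).2 rfl rfl
  obtain ⟨v, hv, d, rfl⟩ := (mem_borel_iff hg).1 hb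
  have hv' : tor T E c' * v * (tor T E c')⁻¹ ∈ genS hg E (Set.Ico T.N T.n) :=
    (Subgroup.mem_normalizer_iff.1 (tor_normalizes hg (fun r hr => hr.2) c') v).1 hv
  have hsplit : v * tor T E (d * e) = tor T E c' * v * (tor T E c')⁻¹ * tor T E (c' * d) := by
    rw [map_mul, map_mul, ← mul_assoc v]
    calc _ = tor T E c' * (v * tor T E d) := hbb
      _ = _ := by group
  have hz : (tor T E c' * v * (tor T E c')⁻¹)⁻¹ * v = tor T E (c' * d) * (tor T E (d * e))⁻¹ := by
    rw [eq_mul_inv_iff_mul_eq, mul_assoc, hsplit, inv_mul_cancel_left]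
  have h1 : (tor T E c' * v * (tor T E c')⁻¹)⁻¹ * v = 1 :=
    pos_inf_torus hg (mul_mem (inv_mem hv') hv) (by
      rw [hz, ← map_inv, ← map_mul, diagonalSubgroup_eq hg]
      exact ⟨_, rfl⟩)
  rw [h1] at hz
  have h2 := eq_mul_inv_iff_mul_eq.1 hz
  rw [one_mul, map_mul, map_mul, ← map_mul, mul_comm d e, map_mul] at h2
  exact mul_right_cancel h2

/-- Coordinates of equal torus elements agree up to the index of connection. -/
theorem tor_pow_inj (g : T.Good) {dd : ℕ} {M : List (List ℤ)} (hM : checkDual T dd M = true)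
    {c c' : ℕ → Eˣ} (h : tor T E c = tor T E c') {j : ℕ} (hj : j < T.l) :
    c j ^ dd = c' j ^ dd := by
  have h1 : ∀ i < T.l, wt T E (c / c') (T.smp i) = 1 := (tor_eq_iff_wt g).1 h
  have h2 := pow_coord hM (c / c') hj
  rw [Finset.prod_eq_one (fun i hi => by rw [h1 i (Finset.mem_range.1 hi), _root_.one_zpow]),
    Pi.div_apply, div_pow] at h2
  exact div_eq_one.1 h2

/-- From the action on the roots to the action on powers of the coordinates. -/
theorem twist_pow_of_roots (g : T.Good) {dd : ℕ} {M : List (List ℤ)} (hM : checkDual T dd M = true)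
    {A : Type*} [CommGroup A] {c : Fin T.l → A} {X : Matrix (Fin T.l) (Fin T.l) ℤ} {q : ℕ}
    (h : ∀ s < T.n, chi c (X *ᵥ avec T s) = chi c (avec T s) ^ q) :
    Twist (c ^ dd) X q := by
  have hp : ∀ x : Fin T.l → ℤ, chi (c ^ dd) x = chi c ((dd : ℤ) • x) := fun x => by
    rw [chi_smul]
    simp only [chi, Pi.pow_apply, ← Finset.prod_zpow]
    exact Finset.prod_congr rfl fun j _ => by
      rw [← zpow_natCast, ← _root_.zpow_mul, ← _root_.zpow_mul, mul_comm]
  rw [twist_iff]
  intro j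
  rw [show (fun i => X i j) = X.col j from rfl, ← mulVec_single_one, hp, ← chi_single (c ^ dd) j, hp,
    ← mulVec_smul, single_eq_sum hM j]
  simp only [mulVec_sum, mulVec_smul, chi_sum, chi_smul, ← Finset.prod_pow]
  refine Finset.prod_congr rfl fun i _ => ?_
  rw [h _ (g.smp_lt i.2), ← zpow_natCast, ← zpow_natCast, ← _root_.zpow_mul, ← _root_.zpow_mul,
    mul_comm]

end Cfsg.Agent.SylHom
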