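import Cfsg.Agent.Lib.SylHom.Bounds
import Cfsg.Agent.Lib.Lie.OrderG2
import Cfsg.Agent.Lib.Lie.OrderB2
import Cfsg.Agent.Lib.Lie.OrderD4
import Cfsg.Agent.Lib.Lie.OrderF4
import Cfsg.Agent.Lib.Lie.OrderE8

/-! The types G2, B2, D4, F4, E8. -/

set_option autoImplicit false
set_option maxRecDepth 20000

namespace Cfsg.Agent.SylHom

open Cfsg.Lie Cfsg.Agent.Chev Cfsg.Agent.Chev.Tab Cfsg.Agent.ChevAut Cfsg.Agent.CoxTorus Matrix
  Polynomial

theorem gG2 : G2Data.tab.GoodA := ⟨G2Data.good, by decide +kernel⟩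
theorem gB2 : B2Data.tab.GoodA := ⟨B2Data.good, by decide +kernel⟩
theorem gD4 : D4Data.tab.GoodA := ⟨D4Data.good, by decide +kernel⟩
theorem gF4 : F4Data.tab.GoodA := ⟨F4Data.good, by decide +kernel⟩
theorem gE8 : E8Data.tab.GoodA := ⟨E8Data.good, by decide +kernel⟩

theorem boundG2 : Bounded G2Data.tab [2, 6] := bounded_of [] (by decide +kernel) (by simp)
theorem boundB2 : Bounded B2Data.tab [2, 4] := bounded_of [] (by decide +kernel) (by simp)
theorem boundF4 : Bounded F4Data.tab [2, 6, 8, 12] := bounded_of [] (by decide +kernel) (by simp)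
theorem boundE8 : Bounded E8Data.tab [2, 8, 12, 14, 18, 20, 24, 30] :=
  bounded_of [] (by decide +kernel) (by simp)

theorem cyclotomic_four : cyclotomic 4 ℤ = X ^ 2 + 1 := by
  have h := cyclotomic_expand_eq_cyclotomic (p := 2) (n := 2) Nat.prime_two (dvd_refl 2) ℤ
  rw [cyclotomic_two, map_add, expand_X, map_one, show (2 * 2 : ℕ) = 4 from rfl] at h
  exact h.symm

theorem cyclotomic_six' : cyclotomic 6 ℤ = X ^ 2 - X + 1 := by
  have h1 := cyclotomic_expand_eq_cyclotomic_mul (p := 3) (n := 2) Nat.prime_three (by norm_num) ℤ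
  rw [cyclotomic_two, map_add, expand_X, map_one, show (2 * 3 : ℕ) = 6 from rfl] at h1
  refine mul_right_cancel₀ (show (X + 1 : ℤ[X]) ≠ 0 from X_add_C_ne_zero 1) ?_
  rw [← h1]; ring

theorem glueD4 : (∃ j : Fin D4Data.tab.l, ¬ ((2 : ℕ) : ℤ) ∣ toV _ [1, 0, 1, 0] j) ∧
    ∀ i : Fin D4Data.tab.l, ((2 : ℕ) : ℤ) ∣ toV _ [1, 0, 1, 0] ⬝ᵥ avec D4Data.tab (D4Data.tab.smp i) := by
  decide +kernel

theorem boundD4 : Bounded D4Data.tab [2, 4, 4, 6] := by
  refine bounded_of [3, 6] (by decide +kernel) fun d hd L hL h => ?_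
  haveI : Fact (Nat.Prime 2) := ⟨Nat.prime_two⟩
  have h2 := glue_dvd 2 _ glueD4.1 glueD4.2 hL
  rcases List.mem_pair.1 hd with rfl | rfl
  · rw [show ([2, 4, 4, 6].filter fun e => decide (3 ∣ e)).length + 1 = 2 from rfl] at h
    rw [eq_pow_of_dvd (show 2 * Nat.totient 3 = D4Data.tab.l by decide +kernel) h, cyclotomic_three] at h2
    norm_num at h2
  · rw [show ([2, 4, 4, 6].filter fun e => decide (6 ∣ e)).length + 1 = 2 from rfl] at h
    rw [eq_pow_of_dvd (show 2 * Nat.totient 6 = D4Data.tab.l by decide +kernel) h, cyclotomic_six'] at h2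
    norm_num at h2

end Cfsg.Agent.SylHom
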