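import Cfsg.Agent.Lib.CoxTorus.SixAlg

/-! Number theory and linear algebra for homocyclic Sylow subgroups of tori. -/

set_option autoImplicit false

namespace Cfsg.Agent.SylHom

open Polynomial Matrix

variable {r q d : ℕ} [hr : Fact r.Prime]

theorem dvd_cyclotomic_iff {j : ℕ} (hj : ¬ r ∣ j) :
    (r : ℤ) ∣ (cyclotomic j ℤ).eval (q : ℤ) ↔ IsPrimitiveRoot (q : ZMod r) j := by
  haveI : NeZero ((j : ℕ) : ZMod r) := ⟨fun h0 => hj ((ZMod.natCast_eq_zero_iff j r).1 h0)⟩
  rw [← isRoot_cyclotomic_iff, ← map_cyclotomic j (Int.castRingHom (ZMod r)), IsRoot.def,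
    ← map_natCast (Int.castRingHom (ZMod r)) q, eval_map, eval₂_at_apply, eq_intCast,
    ← ZMod.intCast_zmod_eq_zero_iff_dvd]

theorem pow_sub_one_eq_prod {e : ℕ} (he : 0 < e) (hq : 1 ≤ q) :
    q ^ e - 1 = ∏ j ∈ Nat.divisors e, ((cyclotomic j ℤ).eval (q : ℤ)).natAbs := by
  have h := congrArg (fun p : ℤ[X] => (p.eval (q : ℤ)).natAbs) (prod_cyclotomic_eq_X_pow_sub_one he ℤ)
  simp only [eval_prod, eval_sub, eval_pow, eval_X, eval_one] at h
  rw [← Int.natAbsHom_apply, map_prod] at h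
  simp only [Int.natAbsHom_apply] at h
  rw [h, show (q : ℤ) ^ e - 1 = ((q ^ e - 1 : ℕ) : ℤ) by
    rw [Nat.cast_sub (Nat.one_le_pow _ _ hq), Nat.cast_pow, Nat.cast_one], Int.natAbs_natCast]

/-- The valuation of `q ^ e - 1`. -/
theorem val_pow_sub_one (hd : IsPrimitiveRoot (q : ZMod r) d) (hq : 2 ≤ q) {e : ℕ} (he : 0 < e)
    (hre : ¬ r ∣ e) :
    padicValNat r (q ^ e - 1) =
      if d ∣ e then padicValNat r ((cyclotomic d ℤ).eval (q : ℤ)).natAbs else 0 := by
  classical
  have hne : ∀ j ∈ Nat.divisors e, ((cyclotomic j ℤ).eval (q : ℤ)).natAbs ≠ 0 := by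
    intro j hj h0
    have := pow_sub_one_eq_prod (q := q) he (by omega)
    rw [Finset.prod_eq_zero hj h0] at this
    have : 2 ≤ q ^ e := le_trans hq (Nat.le_self_pow he.ne' q)
    omega
  have hoff : ∀ j ∈ Nat.divisors e, j ≠ d → padicValNat r ((cyclotomic j ℤ).eval (q : ℤ)).natAbs = 0 := by
    intro j hj hjd
    refine padicValNat.eq_zero_of_not_dvd fun h => hjd ?_
    have h1 := (dvd_cyclotomic_iff (r := r) (q := q) (fun h' => hre (h'.trans (Nat.dvd_of_mem_divisors hj)))).1
      (Int.natCast_dvd.2 h)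
    exact h1.unique hd
  rw [pow_sub_one_eq_prod he (by omega), ← Nat.factorization_def _ hr.out, Nat.factorization_prod hne,
    Finset.sum_apply']
  simp only [Nat.factorization_def _ hr.out]
  split_ifs with hde
  · exact Finset.sum_eq_single d (fun j hj hjd => hoff j hj hjd)
      (fun h => absurd (Nat.mem_divisors.2 ⟨hde, he.ne'⟩) h)
  · exact Finset.sum_eq_zero fun j hj => hoff j hj fun h => hde (h ▸ Nat.dvd_of_mem_divisors hj)

theorem pow_sub_one_dvd_iff (hd : IsPrimitiveRoot (q : ZMod r) d) (hq : 1 ≤ q) {e : ℕ} :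
    r ∣ q ^ e - 1 ↔ d ∣ e := by
  rw [← ZMod.natCast_eq_zero_iff, Nat.cast_sub (Nat.one_le_pow _ _ hq), Nat.cast_pow, Nat.cast_one,
    sub_eq_zero, hd.pow_eq_one_iff_dvd]

theorem val_prod (hd : IsPrimitiveRoot (q : ZMod r) d) (hq : 2 ≤ q) : ∀ {degs : List ℕ},
    (∀ e ∈ degs, 0 < e ∧ ¬ r ∣ e) →
    padicValNat r (degs.map fun e => q ^ e - 1).prod =
      (degs.filter fun e => decide (d ∣ e)).length * padicValNat r ((cyclotomic d ℤ).eval (q : ℤ)).natAbs
  | [], _ => by simp
  | e :: degs, h => by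
    obtain ⟨he, hre⟩ := h e List.mem_cons_self
    have hne : ∀ x : ℕ, 0 < x → q ^ x - 1 ≠ 0 := fun x hx => by
      have : 2 ≤ q ^ x := le_trans hq (Nat.le_self_pow hx.ne' q)
      omega
    rw [List.map_cons, List.prod_cons, padicValNat.mul (hne e he) (List.prod_ne_zero fun h0 => by
      obtain ⟨x, hx, hx0⟩ := List.mem_map.1 h0
      exact hne x (h x (List.mem_cons_of_mem _ hx)).1 hx0), val_pow_sub_one hd hq he hre,
      val_prod hd hq fun x hx => h x (List.mem_cons_of_mem _ hx), List.filter_cons]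
    by_cases hde : d ∣ e
    · simp [hde]; ring
    · simp [hde]

theorem nonempty_mulEquiv_pi {G : Type*} [CommGroup G] [Finite G] {v a : ℕ} (hv : 0 < v)
    (hcard : Nat.card G = r ^ (a * v)) (hexp : ∀ x : G, x ^ r ^ v = 1)
    (htor : Nat.card {x : G // x ^ r = 1} ≤ r ^ a) :
    Nonempty (G ≃* (Fin a → Multiplicative (ZMod (r ^ v)))) := by
  classical
  obtain ⟨ι, _, n, hn, ⟨f⟩⟩ := CommGroup.equiv_prod_multiplicative_zmod_of_finite G
  haveI : ∀ i, NeZero (n i) := fun i => ⟨by have := hn i; omega⟩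
  have hdvd : ∀ i, n i ∣ r ^ v := fun i => by
    have h := congrArg (fun x => f x i) (hexp (f.symm (Pi.mulSingle i (Multiplicative.ofAdd 1))))
    simp only [map_pow, MulEquiv.apply_symm_apply, Pi.pow_apply, Pi.mulSingle_eq_same, map_one,
      Pi.one_apply] at h
    rw [← ofAdd_nsmul, ofAdd_eq_one, nsmul_one, ZMod.natCast_eq_zero_iff] at h
    exact h
  have hrn : ∀ i, r ∣ n i := fun i => by
    obtain ⟨k, -, hk⟩ := (Nat.dvd_prime_pow hr.out).1 (hdvd i)
    rw [hk]
    refine dvd_pow_self r fun h0 => ?_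
    have := hn i
    rw [hk, h0, pow_zero] at this
    omega
  have hι : Fintype.card ι ≤ a := by
    have hdiv : ∀ i, 0 < n i / r := fun i => Nat.div_pos
      (Nat.le_of_dvd (Nat.pos_of_ne_zero (NeZero.ne _)) (hrn i)) hr.out.pos
    let g : (ι → Fin r) → {x : G // x ^ r = 1} := fun k =>
      ⟨f.symm fun i => Multiplicative.ofAdd (((n i / r * (k i : ℕ) : ℕ) : ZMod (n i))), by
        rw [← map_pow]
        refine (MulEquiv.map_eq_one_iff _).2 (funext fun i => ?_)
        rw [Pi.pow_apply, ← ofAdd_nsmul, Pi.one_apply, ofAdd_eq_one, nsmul_eq_mul, ← Nat.cast_mul,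
          ZMod.natCast_eq_zero_iff, ← mul_assoc, Nat.mul_div_cancel' (hrn i)]
        exact dvd_mul_right _ _⟩
    have hg : Function.Injective g := fun k k' h => funext fun i => by
      have h1 := congrFun (f.symm.injective (congrArg Subtype.val h)) i
      have h2 := (ZMod.natCast_eq_natCast_iff' _ _ _).1 (Multiplicative.ofAdd.injective h1)
      have hlt : ∀ k : Fin r, n i / r * (k : ℕ) < n i := fun k =>
        calc n i / r * (k : ℕ) < n i / r * r := Nat.mul_lt_mul_of_pos_left k.2 (hdiv i)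
          _ = n i := Nat.div_mul_cancel (hrn i)
      rw [Nat.mod_eq_of_lt (hlt _), Nat.mod_eq_of_lt (hlt _)] at h2
      exact Fin.ext (Nat.eq_of_mul_eq_mul_left (hdiv i) h2)
    have := (Nat.card_le_card_of_injective g hg).trans htor
    rw [Nat.card_eq_fintype_card, Fintype.card_fun, Fintype.card_fin] at this
    exact (Nat.pow_le_pow_iff_right hr.out.one_lt).1 this
  have hprod : ∏ i, n i = (r ^ v) ^ a := by
    rw [← pow_mul, mul_comm v a, ← hcard, Nat.card_congr f.toEquiv, Nat.card_pi]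
    exact Finset.prod_congr rfl fun i _ => ((Nat.card_congr Multiplicative.toAdd).trans (Nat.card_zmod _)).symm
  have hle : ∀ i, n i ≤ r ^ v := fun i => Nat.le_of_dvd (pow_pos hr.out.pos _) (hdvd i)
  have h1 : 1 < r ^ v := Nat.one_lt_pow hv.ne' hr.out.one_lt
  have hall : ∏ i : ι, n i ≤ (r ^ v) ^ Fintype.card ι := by
    simpa using Finset.prod_le_prod' (s := (Finset.univ : Finset ι)) fun i _ => hle i
  have hcι : Fintype.card ι = a := le_antisymm hι (by
    rw [hprod] at hall
    exact (Nat.pow_le_pow_iff_right h1).1 hall)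
  obtain rfl : n = fun _ => r ^ v := funext fun i => by
    by_contra hne
    refine absurd hprod (ne_of_lt ?_)
    rw [← hcι, ← Finset.card_univ, ← Finset.prod_const]
    exact Finset.prod_lt_prod (fun j _ => by have := hn j; omega) (fun j _ => hle j)
      ⟨i, Finset.mem_univ _, lt_of_le_of_ne (hle i) hne⟩
  exact ⟨f.trans (MulEquiv.arrowCongr (Fintype.equivFinOfCardEq hcι) (MulEquiv.refl _))⟩

theorem cyclotomic_dvd_of_root {e : ℕ} (he : 0 < e) (hre : ¬ r ∣ e) (hd : IsPrimitiveRoot (q : ZMod r) d) :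
    ∀ (m : ℕ) {P : ℤ[X]}, P.natDegree ≤ m → P.Monic →
      (∀ z : ℂ, (P.map (Int.castRingHom ℂ)).eval z = 0 → z ^ e = 1) →
      (P.map (Int.castRingHom (ZMod r))).eval (q : ZMod r) = 0 → cyclotomic d ℤ ∣ P := by
  intro m
  induction m with
  | zero =>
    intro P hP hmon _ hev
    rw [hmon.natDegree_eq_zero.1 (Nat.le_zero.1 hP)] at hev
    simp at hev
  | succ m ih =>
    intro P hP hmon hroots hev
    by_cases h0 : P.natDegree = 0
    · rw [hmon.natDegree_eq_zero.1 h0] at hev
      simp at hev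
    obtain ⟨z, hz⟩ := IsAlgClosed.exists_root (P.map (Int.castRingHom ℂ)) (by
      rw [degree_map_eq_of_injective Int.cast_injective, degree_eq_natDegree hmon.ne_zero]
      exact_mod_cast h0)
    set j := orderOf z with hj
    have hze := hroots z hz
    have hj0 : 0 < j := orderOf_pos_iff.2 (isOfFinOrder_iff_pow_eq_one.2 ⟨e, he, hze⟩)
    have hprim := IsPrimitiveRoot.orderOf z
    have hdvd : cyclotomic j ℤ ∣ P := by
      rw [cyclotomic_eq_minpoly hprim hj0]
      refine minpoly.isIntegrallyClosed_dvd (hprim.isIntegral hj0) ?_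
      rw [aeval_def, ← eval_map]
      exact hz
    obtain ⟨P', rfl⟩ := hdvd
    have hmon' : P'.Monic := Monic.of_mul_monic_left (cyclotomic.monic j ℤ) hmon
    rw [Polynomial.map_mul, eval_mul, mul_eq_zero] at hev
    rcases hev with hev | hev
    · haveI : NeZero ((j : ℕ) : ZMod r) := ⟨fun h0 => hre
        (((ZMod.natCast_eq_zero_iff j r).1 h0).trans (orderOf_dvd_of_pow_eq_one hze))⟩
      rw [map_cyclotomic, ← IsRoot.def, isRoot_cyclotomic_iff] at hev
      rw [hd.unique hev]
      exact dvd_mul_right _ _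
    · refine dvd_mul_of_dvd_right (ih ?_ hmon' (fun w hw => hroots w ?_) hev) _
      · have := natDegree_mul (cyclotomic_ne_zero j ℤ) hmon'.ne_zero
        have := natDegree_cyclotomic j ℤ
        have := Nat.totient_pos.2 hj0
        omega
      · rw [Polynomial.map_mul, eval_mul, hw, mul_zero]

theorem cyclotomic_pow_dvd {e : ℕ} (he : 0 < e) (hre : ¬ r ∣ e) (hd : IsPrimitiveRoot (q : ZMod r) d)
    (hrd : ¬ r ∣ d) :
    ∀ (b : ℕ) {P : ℤ[X]}, P.Monic → (∀ z : ℂ, (P.map (Int.castRingHom ℂ)).eval z = 0 → z ^ e = 1) →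
      b ≤ (P.map (Int.castRingHom (ZMod r))).rootMultiplicity (q : ZMod r) →
      cyclotomic d ℤ ^ b ∣ P := by
  intro b
  induction b with
  | zero => intros; simp
  | succ b ih =>
    intro P hmon hroots hb
    have hne : P.map (Int.castRingHom (ZMod r)) ≠ 0 := (hmon.map _).ne_zero
    have hev := ((rootMultiplicity_pos hne).1 (lt_of_lt_of_le (Nat.succ_pos b) hb))
    obtain ⟨P', rfl⟩ := cyclotomic_dvd_of_root he hre hd _ le_rfl hmon hroots hev
    have hmon' : P'.Monic := Monic.of_mul_monic_left (cyclotomic.monic d ℤ) hmon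
    rw [Polynomial.map_mul] at hne hb
    rw [rootMultiplicity_mul hne] at hb
    haveI : NeZero ((d : ℕ) : ZMod r) := ⟨fun h0 => hrd ((ZMod.natCast_eq_zero_iff d r).1 h0)⟩
    have h1 : ((cyclotomic d ℤ).map (Int.castRingHom (ZMod r))).rootMultiplicity (q : ZMod r) ≤ 1 := by
      rw [map_cyclotomic]
      exact rootMultiplicity_le_one_of_separable (separable_cyclotomic d _) _
    rw [pow_succ']
    exact mul_dvd_mul_left _ (ih hmon' (fun w hw => hroots w (by
      rw [Polynomial.map_mul, eval_mul, hw, mul_zero])) (by omega))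

/-- The solutions of `γ X = q γ` modulo `r` are few. -/
theorem card_eigen_le {n : ℕ} {A : Matrix (Fin n) (Fin n) ℤ} {e : ℕ} (he : 0 < e) (hre : ¬ r ∣ e)
    (hA : A ^ e = 1) (hd : IsPrimitiveRoot (q : ZMod r) d) (hrd : ¬ r ∣ d) :
    ∃ b, cyclotomic d ℤ ^ b ∣ A.charpoly ∧
      Nat.card {γ : Fin n → ZMod r // γ ᵥ* (Int.castRingHom (ZMod r)).mapMatrix A = (q : ZMod r) • γ} ≤
        r ^ b := by
  classical
  set Ab := (Int.castRingHom (ZMod r)).mapMatrix A with hAb
  set φ := Matrix.toLin' Abᵀ with hφ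
  set V := Module.End.eigenspace φ (q : ZMod r) with hV
  refine ⟨Module.finrank (ZMod r) V, cyclotomic_pow_dvd he hre hd hrd _ (charpoly_monic A)
    (fun z hz => ?_) ?_, ?_⟩
  · have := Cfsg.Agent.CoxTorus.eigen_eval (A := A) hz (p := X ^ e - 1)
      (by rw [map_sub, map_pow, aeval_X, map_one, hA, sub_self])
    simpa [sub_eq_zero] using this
  · have h := LinearMap.finrank_eigenspace_le φ (q : ZMod r)
    rw [hφ, Matrix.charpoly_toLin', charpoly_transpose, hAb, RingHom.mapMatrix_apply, charpoly_map] at h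
    exact h
  · let g : {γ : Fin n → ZMod r // γ ᵥ* Ab = (q : ZMod r) • γ} → V := fun γ => ⟨γ.1, by
      rw [hV, Module.End.mem_eigenspace_iff, hφ, toLin'_apply, mulVec_transpose]
      exact γ.2⟩
    have hg : Function.Injective g := fun a b h => Subtype.ext (congrArg (fun x : V => (x : Fin n → ZMod r)) h :)
    refine (Nat.card_le_card_of_injective g hg).trans ?_
    rw [Module.natCard_eq_pow_finrank (K := ZMod r), Nat.card_zmod]

end Cfsg.Agent.SylHom
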