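import Cfsg.Agent.Lib.SylHom.Main

/-! Tools for bounding multiplicities of cyclotomic factors of Weyl matrices. -/

set_option autoImplicit false

namespace Cfsg.Agent.SylHom

open Cfsg.Lie Cfsg.Agent.Chev Cfsg.Agent.Chev.Tab Cfsg.Agent.ChevAut Cfsg.Agent.CoxTorus Matrix
  Polynomial

variable {T : Tab}

theorem mul_totient_le {n d b : ℕ} {A : Matrix (Fin n) (Fin n) ℤ} (h : cyclotomic d ℤ ^ b ∣ A.charpoly) :
    b * d.totient ≤ n := by
  have := natDegree_le_of_dvd h (charpoly_monic A).ne_zero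
  rwa [natDegree_pow, natDegree_cyclotomic, charpoly_natDegree_eq_dim, Fintype.card_fin] at this

theorem bounded_of {degs : List ℕ} (exc : List ℕ)
    (h : ∀ e ∈ degs, 0 < e ∧ ∀ d ∈ List.range (e + 1), d ∣ e → d ∈ exc ∨
      T.l < ((degs.filter fun e => decide (d ∣ e)).length + 1) * d.totient)
    (hexc : ∀ d ∈ exc, ∀ L, T.Wd L → ¬ cyclotomic d ℤ ^
      ((degs.filter fun e => decide (d ∣ e)).length + 1) ∣ (wmat T L).charpoly) :
    Bounded T degs := by
  rintro d ⟨e, he, hde⟩ L hL b hb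
  by_contra hlt
  push Not at hlt
  have hb' := (pow_dvd_pow (cyclotomic d ℤ) (Nat.succ_le_of_lt hlt)).trans hb
  rcases (h e he).2 d (List.mem_range.2 (Nat.lt_succ_of_le (Nat.le_of_dvd (h e he).1 hde))) hde with h1 | h1
  · exact hexc d h1 L hL hb'
  · exact absurd (mul_totient_le hb') (not_le.2 h1)

/-- Weyl matrices fix the functional cutting out the roots modulo a prime. -/
theorem glue_dvd (p : ℕ) [Fact p.Prime] (z : Fin T.l → ℤ) (hz : ∃ j, ¬ (p : ℤ) ∣ z j)
    (hk : ∀ i : Fin T.l, (p : ℤ) ∣ z ⬝ᵥ avec T (T.smp i)) {L : List ℕ} (hL : T.Wd L) :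
    (p : ℤ) ∣ (wmat T L).charpoly.eval 1 := by
  set f := Int.castRingHom (ZMod p) with hf
  have hfix : ∀ {L : List ℕ}, T.Wd L → (f ∘ z) ᵥ* (wmat T L).map f = f ∘ z := by
    intro L
    induction L with
    | nil => intro _; simp
    | cons i L ih =>
      intro hw
      obtain ⟨hi, hw'⟩ := Wd.cons_iff.1 hw
      rw [wmat_cons, Matrix.map_mul, ← vecMul_vecMul]
      have h1 : (f ∘ z) ᵥ* (rmat T i).map f = f ∘ z := funext fun b => by
        rw [← RingHom.map_vecMul]
        simp only [Function.comp_apply, vecMul, dotProduct, rmat, Matrix.of_apply, mul_sub,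
          Finset.sum_sub_distrib, mul_ite, mul_one, mul_zero, Finset.sum_ite_eq', Finset.mem_univ,
          if_true, map_sub, sub_eq_self]
        split_ifs
        · exact (ZMod.intCast_zmod_eq_zero_iff_dvd _ p).2 (hk ⟨i, hi⟩)
        · simp
      rw [h1, ih hw']
  rw [← ZMod.intCast_zmod_eq_zero_iff_dvd, eval_charpoly, ← eq_intCast f, RingHom.map_det,
    RingHom.mapMatrix_apply]
  refine exists_vecMul_eq_zero_iff.1 ⟨f ∘ z, fun h0 => ?_, ?_⟩
  · obtain ⟨j, hj⟩ := hz
    exact hj ((ZMod.intCast_zmod_eq_zero_iff_dvd _ p).1 (congrFun h0 j))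
  · rw [map_one, Matrix.map_sub f (map_sub f), vecMul_sub, hfix hL, Matrix.map_one f (map_zero f) (map_one f),
      vecMul_one, sub_self]

theorem eq_pow_of_dvd {n d k : ℕ} {A : Matrix (Fin n) (Fin n) ℤ} (hn : k * d.totient = n)
    (h : cyclotomic d ℤ ^ k ∣ A.charpoly) : A.charpoly = cyclotomic d ℤ ^ k := by
  refine eq_of_monic_of_dvd_of_natDegree_le ((cyclotomic.monic d ℤ).pow k) (charpoly_monic A) h ?_
  rw [natDegree_pow, natDegree_cyclotomic, charpoly_natDegree_eq_dim, Fintype.card_fin, hn]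

/-- A linear cofactor has a sign as root. -/
theorem eq_mul_sign {n d k e : ℕ} {A : Matrix (Fin n) (Fin n) ℤ} (he : 0 < e) (hA : A ^ e = 1)
    (hn : k * d.totient + 1 = n) (h : cyclotomic d ℤ ^ k ∣ A.charpoly) :
    ∃ c : ℤ, (c = 1 ∨ c = -1) ∧ A.charpoly = cyclotomic d ℤ ^ k * (X - C c) := by
  obtain ⟨P, hP⟩ := h
  have hmon : P.Monic := Monic.of_mul_monic_left ((cyclotomic.monic d ℤ).pow k) (hP ▸ charpoly_monic A)
  have hdeg : P.natDegree = 1 := by
    have := congrArg natDegree hP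
    rw [natDegree_mul (pow_ne_zero _ (cyclotomic_ne_zero d ℤ)) hmon.ne_zero, natDegree_pow,
      natDegree_cyclotomic, charpoly_natDegree_eq_dim, Fintype.card_fin] at this
    omega
  refine ⟨-P.coeff 0, ?_, ?_⟩
  · have hz : (A.charpoly.map (Int.castRingHom ℂ)).eval ((-P.coeff 0 : ℤ) : ℂ) = 0 := by
      rw [hP, Polynomial.map_mul, eval_mul, hmon.eq_X_add_C hdeg]
      simp
    have h1 := eigen_eval hz (p := X ^ e - 1) (by rw [map_sub, map_pow, aeval_X, map_one, hA, sub_self])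
    simp only [Polynomial.map_sub, Polynomial.map_pow, map_X, Polynomial.map_one, eval_sub, eval_pow,
      eval_X, eval_one, sub_eq_zero] at h1
    have h2 : (-P.coeff 0) ^ e = 1 := by exact_mod_cast h1
    exact Int.isUnit_iff.1 (IsUnit.of_pow_eq_one h2 he.ne')
  · rw [hP]
    conv_lhs => rw [hmon.eq_X_add_C hdeg]
    simp

/-- Matrices of finite order are semisimple. -/
theorem aeval_eq_zero_of_pow {n e k : ℕ} {A : Matrix (Fin n) (Fin n) ℤ} (he : 0 < e) (hA : A ^ e = 1)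
    {p : ℤ[X]} (hp : aeval A (p ^ k) = 0) : aeval A p = 0 := by
  apply mapMatrix_rat_injective
  rw [map_zero, ← aeval_map_rat]
  have hk := congrArg ((Int.castRingHom ℚ).mapMatrix) hp
  rw [map_zero, ← aeval_map_rat, Polynomial.map_pow] at hk
  have he' : aeval ((Int.castRingHom ℚ).mapMatrix A) (X ^ e - 1 : ℚ[X]) = 0 := by
    rw [map_sub, map_pow, aeval_X, map_one, ← map_pow, hA, map_one, sub_self]
  have hsq : Squarefree (minpoly ℚ ((Int.castRingHom ℚ).mapMatrix A)) :=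
    (X_pow_sub_one_separable_iff.2 (Nat.cast_ne_zero.2 he.ne')).squarefree.squarefree_of_dvd
      (minpoly.dvd ℚ _ he')
  obtain ⟨t, ht⟩ := hsq.isRadical k _ (minpoly.dvd ℚ _ hk)
  rw [ht, map_mul, minpoly.aeval, zero_mul]

/-- The vector with given entries. -/
def toV (n : ℕ) (v : List ℤ) : Fin n → ℤ := fun b => v.getD (b : ℕ) 0

theorem sum_form {n : ℕ} (G : Matrix (Fin n) (Fin n) ℤ) (X : Matrix (Fin n) (Fin n) ℤ) (k : ℤ)
    (ws : List (List ℤ))
    (hS : ∀ a b : Fin n, (ws.map fun v => toV n v b * (toV n v ᵥ* G) a).sum = if a = b then k else 0) :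
    (ws.map fun v => toV n v ⬝ᵥ (G *ᵥ (X *ᵥ toV n v))).sum = k * X.trace := by
  have key : ∀ l : List (List ℤ), (l.map fun v => toV n v ⬝ᵥ (G *ᵥ (X *ᵥ toV n v))).sum =
      ∑ a, ∑ b, X a b * (l.map fun v => toV n v b * (toV n v ᵥ* G) a).sum := by
    intro l
    induction l with
    | nil => simp
    | cons v l ih =>
      simp only [List.map_cons, List.sum_cons, mul_add, Finset.sum_add_distrib, ih]
      congr 1
      rw [dotProduct_mulVec]
      simp only [dotProduct, mulVec, Finset.mul_sum]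
      exact Finset.sum_congr rfl fun a _ => Finset.sum_congr rfl fun b _ => by ring
  rw [key, Matrix.trace, Finset.mul_sum]
  simp only [hS, mul_ite, mul_zero, Finset.sum_ite_eq, Finset.mem_univ, if_true, Matrix.diag, mul_comm k]

theorem orbit_word {ws : List (List ℤ)} (hcl : ∀ i < T.l, ∀ v ∈ ws,
      (List.ofFn fun a : Fin T.l => (rmat T i *ᵥ toV T.l v) a) ∈ ws) :
    ∀ {L : List ℕ}, T.Wd L → ∀ v ∈ ws, ∃ w ∈ ws, toV T.l w = wmat T L *ᵥ toV T.l v
  | [], _, v, hv => ⟨v, hv, by simp⟩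
  | i :: L, h, v, hv => by
    obtain ⟨hi, hL⟩ := Wd.cons_iff.1 h
    obtain ⟨w, hw, e⟩ := orbit_word hcl hL v hv
    refine ⟨_, hcl i hi w hw, ?_⟩
    rw [wmat_cons, ← mulVec_mulVec, ← e]
    funext b
    simp [toV]

end Cfsg.Agent.SylHom
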