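import Cfsg.Agent.Lib.SylHom.Small
import Cfsg.Agent.Lib.CoxTorus.E6

/-! The type E6. -/

set_option autoImplicit false
set_option maxRecDepth 20000

namespace Cfsg.Agent.SylHom

open Cfsg.Lie Cfsg.Agent.Chev Cfsg.Agent.Chev.Tab Cfsg.Agent.ChevAut Cfsg.Agent.CoxTorus Matrix
  Polynomial

theorem glueE6 : (∃ j : Fin E6Data.tab.l, ¬ ((3 : ℕ) : ℤ) ∣ toV _ [1, 0, 2, 0, 1, 2] j) ∧
    ∀ i : Fin E6Data.tab.l, ((3 : ℕ) : ℤ) ∣ toV _ [1, 0, 2, 0, 1, 2] ⬝ᵥ avec E6Data.tab (E6Data.tab.smp i) := by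
  decide +kernel

theorem sumE6 : ∀ a b : Fin E6Data.tab.l, (E6.weights.map fun v =>
    toV E6Data.tab.l v b * (toV E6Data.tab.l v ᵥ* E6.gram) a).sum = if a = b then (18 : ℤ) else 0 := by
  decide +kernel

theorem trace_ne {L : List ℕ} (hL : E6Data.tab.Wd L) : (wmat E6Data.tab L).trace ≠ -4 := by
  intro htr
  have h := sum_form E6.gram (wmat E6Data.tab L) 18 E6.weights sumE6
  rw [htr] at h
  have hb := List.card_nsmul_le_sum (E6.weights.map fun v =>
    toV E6Data.tab.l v ⬝ᵥ (E6.gram *ᵥ (wmat E6Data.tab L *ᵥ toV E6Data.tab.l v))) (-2) (fun x hx => by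
      obtain ⟨v, hv, rfl⟩ := List.mem_map.1 hx
      obtain ⟨w, hw, e⟩ := orbit_word (T := E6Data.tab) E6.weights_closed hL v hv
      rw [← e]
      have : toV E6Data.tab.l v ⬝ᵥ (E6.gram *ᵥ toV E6Data.tab.l w) ∈ ([4, 1, -2] : List ℤ) :=
        E6.weights_vals v hv w hw
      simp only [List.mem_cons, List.not_mem_nil, or_false] at this
      omega)
  rw [h, List.length_map, show E6.weights.length = 27 from rfl] at hb
  norm_num at hb

theorem boundE6 : Bounded E6Data.tab [2, 5, 6, 8, 9, 12] := by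
  refine bounded_of [2, 4, 6] (by decide +kernel) fun d hd L hL h => ?_
  haveI : Fact (Nat.Prime 3) := ⟨Nat.prime_three⟩
  have h3 := glue_dvd 3 _ glueE6.1 glueE6.2 hL
  simp only [List.mem_cons, List.not_mem_nil, or_false] at hd
  rcases hd with rfl | rfl | rfl
  · rw [show ([2, 5, 6, 8, 9, 12].filter fun e => decide (2 ∣ e)).length + 1 = 5 from rfl] at h
    obtain ⟨c, hc, hP⟩ := eq_mul_sign Nat.card_pos (wmat_pow_card E6.gW.toGood E6.hasDual hL)
      (show 5 * Nat.totient 2 + 1 = E6Data.tab.l by decide +kernel) h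
    rw [cyclotomic_two] at hP
    rcases hc with rfl | rfl
    · refine trace_ne hL ?_
      haveI : Nonempty (Fin E6Data.tab.l) := ⟨⟨0, by decide⟩⟩
      rw [trace_eq_neg_charpoly_coeff, Fintype.card_fin, show E6Data.tab.l - 1 = 5 from rfl, hP,
        show ((X + 1) ^ 5 * (X - C 1) : ℤ[X]) = X ^ 6 + C 4 * X ^ 5 + C 5 * X ^ 4 - C 5 * X ^ 2 - C 4 * X - 1 by
          simp only [map_one, map_ofNat]; ring]
      simp [coeff_X_pow, coeff_one, coeff_X, coeff_ofNat_mul]
    · rw [hP] at h3; norm_num at h3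
  · rw [show ([2, 5, 6, 8, 9, 12].filter fun e => decide (4 ∣ e)).length + 1 = 3 from rfl] at h
    rw [eq_pow_of_dvd (show 3 * Nat.totient 4 = E6Data.tab.l by decide +kernel) h, cyclotomic_four] at h3
    norm_num at h3
  · rw [show ([2, 5, 6, 8, 9, 12].filter fun e => decide (6 ∣ e)).length + 1 = 3 from rfl] at h
    rw [eq_pow_of_dvd (show 3 * Nat.totient 6 = E6Data.tab.l by decide +kernel) h, cyclotomic_six'] at h3
    norm_num at h3

end Cfsg.Agent.SylHom
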