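import Cfsg.Agent.Lib.SylHom.Small
import Cfsg.Agent.Lib.CoxTorus.E7Data

/-! The type E7. -/

set_option autoImplicit false
set_option maxRecDepth 20000

namespace Cfsg.Agent.SylHom

open Cfsg.Lie Cfsg.Agent.Chev Cfsg.Agent.Chev.Tab Cfsg.Agent.ChevAut Cfsg.Agent.CoxTorus Matrix
  Polynomial

/-- the orbit of the last fundamental weight -/
def weights7 : List (List ℤ) :=
  [[1, 1, 0, -1, 0, 0, 0], [1, 1, -1, 0, 0, 0, 0], [1, 0, 0, 0, 0, 0, -1], [1, 0, 0, 0, 0, -1, 1], [1, 0, 0, 0, -1, 1, 0], [1, 0, 0, -1, 1, 0, 0], [1, 0, -1, 1, -1, 0, 0], [1, 0, -1, 0, 1, -1, 0], [1, 0, -1, 0, 0, 1, -1], [1, 0, -1, 0, 0, 0, 1], [1, -1, 0, 0, 0, 0, 0], [1, -1, -1, 1, 0, 0, 0], [0, 1, 1, -1, 0, 0, 0], [0, 1, 0, 0, 0, -1, 0], [0, 1, 0, 0, -1, 1, -1], [0, 1, 0, 0, -1, 0, 1], [0, 1, 0, -1, 1, 0, -1], [0, 1, 0, -1, 1, -1, 1], [0, 1, 0, -1, 0, 1, 0], [0, 1, -1, 0, 0, 0, 0], [0, 0, 1, 0, -1, 0, 0], [0, 0, 1, -1,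 1, -1, 0], [0, 0, 1, -1, 0, 1, -1], [0, 0, 1, -1, 0, 0, 1], [0, 0, 0, 1, -1, 0, 0], [0, 0, 0, 0, 1, -1, 0], [0, 0, 0, 0, 0, 1, -1], [0, 0, 0, 0, 0, 0, 1], [0, 0, 0, 0, 0, 0, -1], [0, 0, 0, 0, 0, -1, 1], [0, 0, 0, 0, -1, 1, 0], [0, 0, 0, -1, 1, 0, 0], [0, 0, -1, 1, 0, 0, -1], [0, 0, -1, 1, 0, -1, 1], [0, 0, -1, 1, -1, 1, 0], [0, 0, -1, 0, 1, 0, 0], [0, -1, 1, 0, 0, 0, 0], [0, -1, 0, 1, 0, -1, 0], [0, -1, 0, 1, -1, 1, -1], [0, -1, 0, 1, -1, 0, 1], [0, -1, 0, 0, 1, 0, -1], [0, -1, 0, 0, 1, -1, 1], [0, -1, 0, 0, 0, 1, 0], [0, -1, -1, 1, 0, 0, 0], [-1, 1, 1, -1, 0, 0, 0], [-1, 1, 0, 0, 0, 0, 0], [-1, 0, 1, 0, 0, 0, -1], [-1, 0, 1, 0, 0, -1, 1], [-1, 0, 1, 0, -1, 1, 0], [-1, 0, 1, -1, 1, 0, 0], [-1, 0, 0, 1, -1, 0, 0], [-1, 0, 0, 0, 1, -1, 0], [-1, 0, 0, 0, 0, 1, -1], [-1, 0, 0, 0, 0, 0, 1], [-1, -1, 1, 0, 0, 0, 0], [-1, -1, 0, 1, 0, 0, 0]]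

theorem closed7 : ∀ i < E7Data.tab.l, ∀ v ∈ weights7,
    (List.ofFn fun a : Fin E7Data.tab.l => (rmat E7Data.tab i *ᵥ toV E7Data.tab.l v) a) ∈ weights7 := by
  decide +kernel

theorem odd7 : ∀ v ∈ weights7, ∀ w ∈ weights7,
    (toV E7Data.tab.l v ⬝ᵥ (E7.gram *ᵥ toV E7Data.tab.l w)) % 2 = 1 := by
  decide +kernel

theorem sum7 : ∀ a b : Fin E7Data.tab.l, (weights7.map fun v =>
    toV E7Data.tab.l v b * (toV E7Data.tab.l v ᵥ* E7.gram) a).sum = if a = b then (24 : ℤ) else 0 := by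
  decide +kernel

theorem nonneg7 (x : Fin E7Data.tab.l → ℤ) : 0 ≤ x ⬝ᵥ (E7.gram *ᵥ x) := by
  have h := congrArg (fun M => x ⬝ᵥ (M *ᵥ x)) E7.gramCert
  simp only [smul_mulVec, dotProduct_smul, smul_eq_mul] at h
  rw [← mulVec_mulVec, ← mulVec_mulVec, dotProduct_mulVec x (lmat E7Data.tab.l E7.upper)ᵀ,
    vecMul_transpose] at h
  refine nonneg_of_mul_nonneg_right (h ▸ ?_) (by norm_num : (0 : ℤ) < 30)
  simp only [dotProduct, mulVec_diagonal]
  refine Finset.sum_nonneg fun i _ => ?_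
  rw [mul_left_comm]
  exact mul_nonneg ((show ∀ i : Fin E7Data.tab.l, (0 : ℤ) ≤ ([30, 10, 2, 3, 5, 10, 30] : List ℤ).getD (i : ℕ) 0
    by decide +kernel) i) (mul_self_nonneg _)

theorem boundE7 : Bounded E7Data.tab [2, 6, 8, 10, 12, 14, 18] := by
  refine bounded_of [4] (by decide +kernel) fun d hd L hL h => ?_
  rw [List.mem_singleton] at hd
  subst hd
  rw [show ([2, 6, 8, 10, 12, 14, 18].filter fun e => decide (4 ∣ e)).length + 1 = 3 from rfl] at h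
  have hA := wmat_pow_card E7.gW.toGood E7.hasDual hL
  obtain ⟨c, hc, hP⟩ := eq_mul_sign Nat.card_pos hA
    (show 3 * Nat.totient 4 + 1 = E7Data.tab.l by decide +kernel) h
  rw [cyclotomic_four] at hP
  set A := wmat E7Data.tab L with hAdef
  have hc2 : c * c = 1 := by rcases hc with rfl | rfl <;> norm_num
  have hker : aeval A ((X ^ 2 + 1) * (X - C c)) = 0 := by
    refine aeval_eq_zero_of_pow Nat.card_pos hA (k := 3) ?_
    rw [mul_pow, pow_succ (X - C c) 2, mul_left_comm, ← hP, map_mul, aeval_self_charpoly, mul_zero]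
  have htr : A.trace = c := by
    haveI : Nonempty (Fin E7Data.tab.l) := ⟨⟨0, by decide⟩⟩
    rw [trace_eq_neg_charpoly_coeff, Fintype.card_fin, show E7Data.tab.l - 1 = 6 from rfl, hP,
      show ((X ^ 2 + 1) ^ 3 * (X - C c) : ℤ[X]) = X ^ 7 - C c * X ^ 6 + C 3 * X ^ 5 - C (3 * c) * X ^ 4 +
        C 3 * X ^ 3 - C (3 * c) * X ^ 2 + X - C c by simp only [map_mul, map_ofNat]; ring]
    simp [-eq_intCast, coeff_X_pow, coeff_C, coeff_C_mul, coeff_X, coeff_ofNat_mul, mul_assoc]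
  have hiso := E7.form.invariant hL
  have hge : ∀ v : Fin E7Data.tab.l → ℤ, 0 ≤ c * (v ⬝ᵥ (E7.gram *ᵥ (A *ᵥ v))) := by
    intro v
    set B : (Fin E7Data.tab.l → ℤ) → (Fin E7Data.tab.l → ℤ) → ℤ := fun x y => x ⬝ᵥ (E7.gram *ᵥ y) with hB
    have hi : ∀ x y, B (A *ᵥ x) (A *ᵥ y) = B x y := hiso
    have hs : ∀ x y, B x y = B y x := E7.form.comm
    have hal : ∀ x y z, B (x + y) z = B x z + B y z := fun x y z => add_dotProduct _ _ _
    have har : ∀ x y z, B z (x + y) = B z x + B z y := fun x y z => by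
      simp only [hB, mulVec_add, dotProduct_add]
    have hsl : ∀ (k : ℤ) x z, B (k • x) z = k * B x z := fun k x z => by
      simp only [hB, smul_dotProduct, smul_eq_mul]
    set a := A *ᵥ v with ha
    set b := A *ᵥ a with hb
    set u := b + v with hu
    have hAu : A *ᵥ u = c • u := by
      have := congrArg (· *ᵥ v) hker
      simp only [map_mul, map_add, map_sub, map_pow, aeval_X, map_one, aeval_C, zero_mulVec,
        Algebra.algebraMap_eq_smul_one, ← mulVec_mulVec, sub_mulVec, add_mulVec, smul_mulVec,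
        one_mulVec, pow_two] at this
      rw [mulVec_sub, mulVec_smul, mulVec_sub, mulVec_smul, ← ha, ← hb] at this
      funext i
      have := congrFun this i
      simp only [hu, mulVec_add, Pi.add_apply, Pi.sub_apply, Pi.smul_apply, Pi.zero_apply, smul_eq_mul,
        ← ha] at this ⊢
      linarith
    have hA2u : A *ᵥ (A *ᵥ u) = u := by rw [hAu, mulVec_smul, hAu, smul_smul, hc2, one_smul]
    have e1 : B u b = B u v := by
      conv_lhs => rw [← hA2u, hb, ha, hi, hi]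
    have e2 : c * B u a = B u v := by
      rw [← hsl, ← hAu, ha, hi]
    have e3 : B u a = 2 * B v a := by
      rw [hu, hal, hb, show B (A *ᵥ a) a = B a v by conv_lhs => rw [ha, hi], hs a v]; ring
    have e4 := nonneg7 u
    have e5 : B u u = B u b + B u v := by
      conv_lhs => arg 2; rw [hu]
      rw [har]
    change 0 ≤ B u u at e4
    change 0 ≤ c * B v a
    rw [e5, e1, ← e2, e3] at e4
    linarith
  have hsum := sum_form E7.gram A 24 weights7 sum7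
  rw [htr] at hsum
  have hb := List.card_nsmul_le_sum (weights7.map fun v =>
    c * (toV E7Data.tab.l v ⬝ᵥ (E7.gram *ᵥ (A *ᵥ toV E7Data.tab.l v)))) 1 (fun x hx => by
      obtain ⟨v, hv, rfl⟩ := List.mem_map.1 hx
      have h0 := hge (toV E7Data.tab.l v)
      obtain ⟨w, hw, e⟩ := orbit_word closed7 hL v hv
      rw [← hAdef] at e
      rw [← e] at h0 ⊢
      have := odd7 v hv w hw
      rcases hc with rfl | rfl <;> omega)
  rw [List.sum_map_mul_left, hsum, ← mul_assoc, mul_comm c 24, mul_assoc, hc2, List.length_map,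
    show weights7.length = 56 from rfl] at hb
  norm_num at hb

end Cfsg.Agent.SylHom
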