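import Cfsg.Agent.Lib.SylHom.Cyclo
import Cfsg.Agent.Lib.SylHom.Conj

/-! Sylow subgroups for primes away from the characteristic and the Weyl group. -/

set_option autoImplicit false

namespace Cfsg.Agent.SylHom

open Cfsg.Lie Cfsg.Agent.Chev Cfsg.Agent.Chev.Tab Cfsg.Agent.ChevAut Cfsg.Agent.CoxTorus Matrix
  Polynomial

variable {T : Tab}

theorem prod_zpow_sum {G ι : Type*} [CommGroup G] (x : G) (s : Finset ι) (f : ι → ℤ) :
    ∏ i ∈ s, x ^ f i = x ^ ∑ i ∈ s, f i := by
  classical
  induction s using Finset.induction_on with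
  | empty => simp
  | insert i s hi ih => rw [Finset.prod_insert hi, Finset.sum_insert hi, ih, _root_.zpow_add]

/-- The number of degrees divisible by `d` bounds the multiplicity of the `d`-th cyclotomic factor. -/
def Bounded (T : Tab) (degs : List ℕ) : Prop :=
  ∀ d, (∃ e ∈ degs, d ∣ e) → ∀ L, T.Wd L → ∀ b, cyclotomic d ℤ ^ b ∣ (wmat T L).charpoly →
    b ≤ (degs.filter fun e => decide (d ∣ e)).length

theorem sylow_homocyclic (g : T.GoodA) {dd : ℕ} {M : List (List ℤ)} (hM : checkDual T dd M = true)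
    {C : TorCert} {steps : List (ℕ × List Rep)} {degs : List ℕ} (hC : T.checkTor C = true)
    (hS : T.checkChain [] steps = true) (hP : T.checkPoly steps degs = true)
    (hW : (steps.map fun e => evalL (1 : ℤ) (lenPoly e.2)).prod = (degs.prod : ℤ))
    (hdd : dd ∣ degs.prod) (hCd : C.d ∣ degs.prod) (hbound : Bounded T degs)
    {F : Type*} [Field F] [Fintype F] {q : ℕ} (hF : Fintype.card F = q) (r : ℕ) [Fact r.Prime]
    (hrq : ¬ r ∣ q) (hrW : ¬ r ∣ degs.prod) (hrG : r ∣ Nat.card ↥(T.D.group F))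
    (P : Sylow r ↥(T.D.group F)) :
    Nonempty (↥(P : Subgroup ↥(T.D.group F)) ≃*
      (Fin (degs.filter fun e => decide (orderOf (q : ZMod r) ∣ e)).length →
        Multiplicative (ZMod (r ^ padicValNat r
          ((cyclotomic (orderOf (q : ZMod r)) ℤ).eval (q : ℤ)).natAbs)))) := by
  classical
  have hg := g.toGood
  have hr : r.Prime := Fact.out
  haveI : Finite F := Finite.of_fintype F
  have hqp : IsPrimePow q := hF ▸ FiniteField.isPrimePow_card F
  have hq2 : 2 ≤ q := hqp.one_lt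
  set d := orderOf (q : ZMod r) with hd
  have hdprim : IsPrimitiveRoot (q : ZMod r) d := IsPrimitiveRoot.orderOf _
  have hq0 : (q : ZMod r) ≠ 0 := fun h => hrq ((ZMod.natCast_eq_zero_iff q r).1 h)
  have hd1 : d ∣ r - 1 := hdprim.dvd_of_pow_eq_one _ (ZMod.pow_card_sub_one_eq_one hq0)
  have hd0 : 0 < d := orderOf_pos_iff.2
    (isOfFinOrder_iff_pow_eq_one.2 ⟨r - 1, by have := hr.two_le; omega, ZMod.pow_card_sub_one_eq_one hq0⟩)
  have hrd : ¬ r ∣ d := fun h => by
    have h1 := Nat.le_of_dvd hd0 h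
    have h2 := Nat.le_of_dvd (by have := hr.two_le; omega) hd1
    omega
  set v := padicValNat r ((cyclotomic d ℤ).eval (q : ℤ)).natAbs with hv
  set a := (degs.filter fun e => decide (d ∣ e)).length with ha
  have hdeg : ∀ e ∈ degs, 0 < e ∧ ¬ r ∣ e := fun e he => by
    simp only [checkPoly, Bool.and_eq_true, List.all_eq_true, nat_ble] at hP
    exact ⟨hP.1 e he, fun h => hrW (h.trans (List.dvd_prod he))⟩
  have hw : Nat.card ↥(wG hg) = degs.prod := by exact_mod_cast (card_wG hg hS).trans hW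
  have hrw : ¬ r ∣ Nat.card ↥(wG hg) := hw ▸ hrW
  have hw0 : 0 < Nat.card ↥(wG hg) := Nat.card_pos
  -- the order
  have hval : (Nat.card ↥(T.D.group F)).factorization r = a * v := by
    have h := congrArg (padicValNat r) (card_group_formula (F := F) g hF hC hS hP)
    have hgcd : ¬ r ∣ Nat.gcd C.d (q - 1) := fun h' =>
      hrW ((h'.trans (Nat.gcd_dvd_left _ _)).trans hCd)
    have hgcd0 : Nat.gcd C.d (q - 1) ≠ 0 := fun h0 => hgcd (h0 ▸ dvd_zero r)
    have hprod : (degs.map fun e => q ^ e - 1).prod ≠ 0 := List.prod_ne_zero fun h0 => by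
      obtain ⟨e, he, he0⟩ := List.mem_map.1 h0
      have : 2 ≤ q ^ e := le_trans hq2 (Nat.le_self_pow (hdeg e he).1.ne' q)
      omega
    rw [padicValNat.mul (pow_ne_zero _ hgcd0) Nat.card_pos.ne',
      padicValNat.mul (pow_ne_zero _ (by omega)) hprod,
      padicValNat.pow _ _, padicValNat.pow _ _, padicValNat.eq_zero_of_not_dvd hgcd,
      padicValNat.eq_zero_of_not_dvd hrq, mul_zero, mul_zero, zero_add, zero_add,
      val_prod hdprim hq2 hdeg] at h
    rw [Nat.factorization_def _ hr, h]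
  have hpos : 0 < a * v := by
    rw [← hval]
    exact hr.factorization_pos_of_dvd Nat.card_pos.ne' hrG
  have hv0 : 0 < v := (Nat.eq_zero_or_pos v).resolve_left fun h => by simp [h] at hpos
  have hex : ∃ e ∈ degs, d ∣ e := by
    by_contra hc
    push Not at hc
    rw [ha, List.filter_eq_nil_iff.2 (fun e he => by simp [hc e he]), List.length_nil, zero_mul] at hpos
    exact lt_irrefl 0 hpos
  have hcardP : Nat.card ↥(P : Subgroup ↥(T.D.group F)) = r ^ (a * v) := by
    rw [← hval]; exact P.card_eq_multiplicity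
  have hcop : Nat.Coprime (r ^ (a * v)) dd :=
    ((hr.coprime_iff_not_dvd).2 fun h => hrW (h.trans hdd)).pow_left _
  -- the extension field
  obtain ⟨p, hp⟩ := CharP.exists F
  haveI : Fact p.Prime := ⟨CharP.char_is_prime F p⟩
  haveI : NeZero d := ⟨hd0.ne'⟩
  let E := FiniteField.Extension F p d
  haveI : Fintype E := Fintype.ofFinite E
  have hcE : Fintype.card E = q ^ d := by
    rw [← Nat.card_eq_fintype_card, FiniteField.natCard_extension, Nat.card_eq_fintype_card, hF]
  have hQ : r ∣ Fintype.card E - 1 := by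
    rw [hcE, pow_sub_one_dvd_iff hdprim (by omega)]
  obtain ⟨σ, hσ⟩ := TwField.exists_powHom (K := E) hqp hcE
  let φ : F →+* E := algebraMap F E
  have hφ : ∀ t, σ (φ t) = φ t := fun t => by rw [hσ, ← map_pow, ← hF, FiniteField.pow_card]
  let ι : ↥(T.D.group F) →* GL T.D.Idx E := (fieldMap T φ).comp (T.D.group F).subtype
  have hιinj : Function.Injective ι :=
    (Units.map_injective (Matrix.map_injective φ.injective)).comp Subtype.val_injective
  have hιG : ∀ z, ι z ∈ T.D.group E := by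
    rintro ⟨z, hz⟩
    show fieldMap T φ z ∈ _
    induction hz using Subgroup.closure_induction with
    | mem y hy =>
      obtain ⟨s, t, ht⟩ := hy
      rw [show y = xg hg s t from eq_xg hg (by rw [ht, ChevalleyDatum.x, dif_pos s.2]), fieldMap_xg]
      exact xg_mem_group _ _ _
    | one => simp [one_mem]
    | mul a b _ _ ha hb => rw [map_mul]; exact mul_mem ha hb
    | inv a _ ha => rw [map_inv]; exact inv_mem ha
  have hιfix : ∀ z, entryHom T σ (ι z) = ι z := fun z => Units.ext (Matrix.ext fun a b => hφ _)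
  -- diagonalisation
  let ι' : ↥(T.D.group F) →* ↥(T.D.group E) := ι.codRestrict _ hιG
  obtain ⟨h, hh, hdiag⟩ := exists_diag_conj g hQ hrw (P.isPGroup'.map ι')
  have hdiag' : ∀ z : ↥(P : Subgroup ↥(T.D.group F)), ∃ c, h * ι z * h⁻¹ = tor T E c := fun z =>
    hdiag (ι' z.1) ⟨z.1, z.2, rfl⟩
  choose c hc using hdiag'
  let χ : ↥(P : Subgroup ↥(T.D.group F)) →* (Fin T.l → Eˣ) := MonoidHom.mk'
    (fun z j => c z j ^ dd) fun z w => funext fun j => by
      have e : tor T E (c (z * w)) = tor T E (c z * c w) := by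
        rw [map_mul, ← hc, ← hc, ← hc, Subgroup.coe_mul, map_mul]
        group
      rw [Pi.mul_apply, tor_pow_inj hg hM e j.2, Pi.mul_apply, mul_pow]
  have hχker : ∀ z, χ z = 1 → z = 1 := fun z hz => by
    have e : tor T E (c z ^ dd) = 1 := by
      rw [tor_congr hg (d := 1) fun j hj => congrFun hz ⟨j, hj⟩, map_one]
    rw [map_pow, ← hc, conj_pow, conj_eq_one_iff, ← map_pow] at e
    have e' : z ^ dd = 1 := Subtype.ext (hιinj (by rw [Subgroup.coe_one, map_one, SubmonoidClass.coe_pow, e]))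
    refine orderOf_eq_one_iff.1 (Nat.eq_one_of_dvd_coprimes hcop ?_ (orderOf_dvd_of_pow_eq_one e'))
    rw [← hcardP]
    exact orderOf_dvd_natCard z
  have hχinj : Function.Injective χ := (injective_iff_map_eq_one χ).2 hχker
  letI : CommGroup ↥(P : Subgroup ↥(T.D.group F)) :=
    { (inferInstance : Group ↥(P : Subgroup ↥(T.D.group F))) with
      mul_comm := fun z w => hχinj (by rw [map_mul, map_mul, mul_comm]) }
  -- the Weyl word
  have hσtor : ∀ e : ℕ → Eˣ, entryHom T σ (tor T E e) = tor T E (e ^ q) := fun e => by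
    rw [entryHom_tor]
    congr 1
    funext j
    exact Units.ext (by simp [hσ])
  set m := entryHom T σ h * h⁻¹ with hm
  obtain ⟨L, hL, hword⟩ := exists_word g (m := m) (mul_mem (entryHom_group hg σ hh) (inv_mem hh))
  set X' := wmat T L.reverse with hX'
  have htwist : ∀ z, Twist (χ z) X' q := fun z => by
    have hn := hword (c z) (c z ^ q) (by
      rw [← hσtor, ← hc, map_mul, map_mul, hιfix, map_inv, hm]
      group)
    refine twist_pow_of_roots hg hM (c := fun j : Fin T.l => c z j) fun s hs => ?_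
    have h1 := wt_of_conj hg hL hn (rw'_lt hg hL.reverse hs)
    rw [wt_pow, rw'_rev' hg hL hs] at h1
    rw [hX', wmat_avec hg hL.reverse hs, ← wt_eq_chi, ← wt_eq_chi, h1]
  have hXW : X' ^ Nat.card ↥(wG hg) = 1 :=
    wmat_pow_card hg ⟨dd, Nat.pos_of_ne_zero fun h0 => hrW (by
      rw [h0, zero_dvd_iff] at hdd; rw [hdd]; exact dvd_zero r), hM⟩ hL.reverse
  -- the exponent
  have hexp : ∀ z : ↥(P : Subgroup ↥(T.D.group F)), z ^ r ^ v = 1 := fun z => hχinj <| by
    rw [map_pow, map_one]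
    funext j
    set W := Nat.card ↥(wG hg) with hWdef
    have h1 : χ z j ^ (q ^ W - 1) = 1 := by
      have e := (htwist z).aeval (X ^ W - 1) (Pi.single j 1)
      rw [map_sub, map_pow, aeval_X, map_one, hXW, sub_self, zero_mulVec, chi_zero, chi_single,
        eval_sub, eval_pow, eval_X, eval_one] at e
      rw [← zpow_natCast, Nat.cast_sub (Nat.one_le_pow _ _ (by omega)), Nat.cast_pow, Nat.cast_one]
      exact e.symm
    have h2 : χ z j ^ r ^ (a * v) = 1 := by
      rw [← Pi.pow_apply, ← map_pow, ← hcardP, pow_card_eq_one', map_one, Pi.one_apply]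
    obtain ⟨k, -, hk⟩ := (Nat.dvd_prime_pow hr).1 (orderOf_dvd_of_pow_eq_one h2)
    have hne : q ^ W - 1 ≠ 0 := by
      have : 2 ≤ q ^ W := le_trans hq2 (Nat.le_self_pow hw0.ne' q)
      omega
    have hkv : k ≤ v := by
      have h3 := padicValNat_dvd_iff_le (p := r) hne |>.1 (hk ▸ orderOf_dvd_of_pow_eq_one h1)
      rw [val_pow_sub_one hdprim hq2 hw0 hrw] at h3
      refine h3.trans ?_
      split_ifs
      exacts [le_rfl, Nat.zero_le _]
    rw [Pi.pow_apply, Pi.one_apply, ← orderOf_dvd_iff_pow_eq_one, hk]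
    exact pow_dvd_pow r hkv
  -- the rank
  obtain ⟨b, hbdvd, hbcard⟩ := card_eigen_le (A := X') (q := q) hw0 hrw hXW hdprim hrd
  have hba : b ≤ a := hbound d hex _ hL.reverse b hbdvd
  obtain ⟨ζ, hζ⟩ := exists_prime_orderOf_dvd_card' (G := Eˣ) r
    (by rwa [Nat.card_units, Nat.card_eq_fintype_card])
  have hζ' : IsPrimitiveRoot (ζ : E) r := IsPrimitiveRoot.coe_units_iff.2 (hζ ▸ IsPrimitiveRoot.orderOf ζ)
  have hcoord : ∀ (z : {z : ↥(P : Subgroup ↥(T.D.group F)) // z ^ r = 1}) (j : Fin T.l),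
      ∃ i : ZMod r, χ z.1 j = ζ ^ i.val := fun z j => by
    have h1 : (χ z.1 j : E) ^ r = 1 := by
      rw [← Units.val_pow_eq_pow_val, ← Pi.pow_apply, ← map_pow, z.2, map_one, Pi.one_apply,
        Units.val_one]
    obtain ⟨i, hi, e⟩ := hζ'.eq_pow_of_pow_eq_one h1
    refine ⟨(i : ZMod r), Units.ext ?_⟩
    rw [ZMod.val_natCast, Nat.mod_eq_of_lt hi, Units.val_pow_eq_pow_val, e]
  choose γ hγ using hcoord
  have hγeig : ∀ z, γ z ᵥ* (Int.castRingHom (ZMod r)).mapMatrix X' = (q : ZMod r) • γ z := fun z =>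
    funext fun j => by
      have e := (twist_iff.1 (htwist z.1)) j
      simp only [chi, hγ, ← zpow_natCast, ← _root_.zpow_mul] at e
      rw [prod_zpow_sum] at e
      rw [← orderOf_dvd_sub_iff_zpow_eq_zpow, hζ, ← ZMod.intCast_zmod_eq_zero_iff_dvd, Int.cast_sub,
        sub_eq_zero, Int.cast_sum] at e
      simp only [vecMul, dotProduct, RingHom.mapMatrix_apply, map_apply, eq_intCast, Pi.smul_apply,
        smul_eq_mul]
      simpa [mul_comm] using e
  refine nonempty_mulEquiv_pi (r := r) hv0 hcardP hexp ?_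
  refine le_trans ?_ (hbcard.trans (Nat.pow_le_pow_right hr.pos hba))
  refine Nat.card_le_card_of_injective (fun z => ⟨γ z, hγeig z⟩) fun z w e => ?_
  refine Subtype.ext (hχinj (funext fun j => ?_))
  rw [hγ, hγ, show γ z = γ w from congrArg Subtype.val e]

end Cfsg.Agent.SylHom
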